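import Cfsg.Agent.Weyl.CoxeterOrders
import Mathlib.GroupTheory.Subgroup.Center
import Mathlib.Data.ZMod.Basic

/-!
# Centres of the exceptional Coxeter groups from certificates

A central element commutes with every simple reflection, so acts as a scalar on the weight
lattice of a connected Cartan matrix; the scalar is `±1`.
-/

namespace CfsgLib.WeylCenter

open CfsgLib.Weyl

variable {n : ℕ} {C : Cert n} {M : CoxeterMatrix (Fin n)}

/-- The Cartan matrix has diagonal `2` and `par` is a spanning tree towards the root `r`. -/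
def connOk (C : Cert n) (r : Fin n) (par : Fin n → Fin n) : Prop :=
  (∀ i : Fin n, C.a i i = 2) ∧
    ∀ k : Fin n, par^[n] k = r ∧ (par k = k ∨ C.a k (par k) ≠ 0)

theorem reflFun_eq (C : Cert n) (i : Fin n) (v : Fin n → ℤ) (k : Fin n) :
    C.reflFun i v k = v k - v i * C.a k i := by
  unfold Cert.reflFun
  split <;> simp [*]

theorem reflFun_eq_smul (C : Cert n) (i : Fin n) (v : Fin n → ℤ) :
    C.refl i v = v - v i • (fun k : Fin n => C.a k i) := by
  funext k
  show C.reflFun i v k = _
  simp [reflFun_eq]

/-- An endomorphism commuting with the reflections of a connected Cartan matrix is a scalar. -/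
theorem eq_scalar_of_comm {r : Fin n} {par : Fin n → Fin n} (hconn : connOk C r par)
    (L : Module.End ℤ (Fin n → ℤ)) (hL : ∀ i v, L (C.refl i v) = C.refl i (L v)) :
    ∃ c : ℤ, ∀ v, L v = c • v := by
  obtain ⟨hd, hp⟩ := hconn
  have key : ∀ (i : Fin n) (v : Fin n → ℤ), v i • L (fun k : Fin n => C.a k i) = (L v) i • (fun k : Fin n => C.a k i) := by
    intro i v
    have h := hL i v
    rw [reflFun_eq_smul, reflFun_eq_smul, map_sub, map_smul] at h
    exact sub_right_injective h
  have hoff : ∀ i j : Fin n, j ≠ i → L (Pi.single j 1) i = 0 := by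
    intro i j hji
    have h := congrFun (key i (Pi.single j 1)) i
    simp [Pi.single_eq_of_ne hji.symm, hd i] at h
    omega
  let lam : Fin n → ℤ := fun i => L (Pi.single i 1) i
  have hdiag : ∀ (v : Fin n → ℤ) (i : Fin n), L v i = lam i * v i := by
    intro v i
    conv_lhs => rw [← Finset.univ_sum_single v]
    rw [map_sum, Finset.sum_apply, Finset.sum_eq_single i]
    · rw [show Pi.single i (v i) = v i • (Pi.single i 1 : Fin n → ℤ) by rw [← Pi.single_smul]; simp,
        map_smul]
      simp [lam, mul_comm]
    · intro j _ hji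
      rw [show Pi.single j (v j) = v j • (Pi.single j 1 : Fin n → ℤ) by rw [← Pi.single_smul]; simp,
        map_smul]
      simp [hoff i j hji]
    · simp
  have hedge : ∀ k i : Fin n, C.a k i ≠ 0 → lam k = lam i := by
    intro k i hki
    have h := congrFun (key i (Pi.single i 1)) k
    simp only [Pi.single_eq_same, Pi.smul_apply, smul_eq_mul, hdiag, mul_one, one_mul] at h
    exact mul_right_cancel₀ hki h
  have hpar : ∀ k : Fin n, lam (par k) = lam k := by
    intro k
    rcases (hp k).2 with h | h
    · rw [h]
    · exact (hedge _ _ h).symm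
  refine ⟨lam r, fun v => funext fun i => ?_⟩
  have hiter : ∀ m : ℕ, ∀ k : Fin n, lam (par^[m] k) = lam k := by
    intro m
    induction m with
    | zero => intro k; rfl
    | succ m ih => intro k; rw [Function.iterate_succ_apply', hpar, ih]
  rw [hdiag, Pi.smul_apply, smul_eq_mul, ← (hp i).1, hiter]

variable (hC : C.Good M) {r : Fin n} {par : Fin n → Fin n} (hconn : connOk C r par)
include hC hconn

/-- A central element acts as `1` or `-1`. -/
theorem rep_center {z : M.Group} (hz : z ∈ Subgroup.center M.Group) :
    z = 1 ∨ ∀ v, hC.rep z v = -v := by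
  have comm : ∀ y ∈ Subgroup.center M.Group, ∀ i v,
      hC.rep y (C.refl i v) = C.refl i (hC.rep y v) := by
    intro y hy i v
    rw [← hC.rep_simple i, ← Module.End.mul_apply, ← Module.End.mul_apply, ← map_mul, ← map_mul,
      Subgroup.mem_center_iff.mp hy]
  obtain ⟨c, hc⟩ := eq_scalar_of_comm hconn _ (comm z hz)
  obtain ⟨d, hd⟩ := eq_scalar_of_comm hconn _ (comm z⁻¹ (inv_mem hz))
  have h1 : hC.rep z (hC.rep z⁻¹ (Pi.single r 1)) = Pi.single r 1 := by
    rw [← Module.End.mul_apply, ← map_mul, mul_inv_cancel, map_one, Module.End.one_apply]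
  rw [hd, hc] at h1
  have h2 : c * d = 1 := by simpa using congrFun h1 r
  rcases Int.eq_one_or_neg_one_of_mul_eq_one h2 with rfl | rfl
  · left
    apply hC.rep_injective
    rw [map_one]
    exact LinearMap.ext fun v => by simp [hc]
  · right
    intro v
    simp [hc]

omit hconn in
/-- An element acting as `-1` is central. -/
theorem mem_center_of_neg {w : M.Group} (hw : ∀ v, hC.rep w v = -v) :
    w ∈ Subgroup.center M.Group := by
  rw [Subgroup.mem_center_iff]
  intro g
  apply hC.rep_injective
  refine LinearMap.ext fun v => ?_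
  simp [map_mul, hw]

/-- If some element acts as `-1`, the centre consists of it and `1`. -/
theorem center_of_neg {w : M.Group} (hw : ∀ v, hC.rep w v = -v) :
    Nat.card (Subgroup.center M.Group) = 2 ∧
      Subgroup.center M.Group ≤ Subgroup.zpowers w := by
  have key : ∀ z ∈ Subgroup.center M.Group, z = 1 ∨ z = w := by
    intro z hz
    refine (rep_center hC hconn hz).imp_right fun h => hC.rep_injective ?_
    exact LinearMap.ext fun v => by rw [h, hw]
  have hne : w ≠ 1 := by
    intro h
    have := congrFun (hw (Pi.single r 1)) r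
    rw [h, map_one] at this
    simp at this
  refine ⟨?_, fun z hz => ?_⟩
  · rw [Nat.card_eq_two_iff]
    refine ⟨⟨1, one_mem _⟩, ⟨w, mem_center_of_neg hC hw⟩, ?_, ?_⟩
    · intro h; exact hne (congrArg Subtype.val h).symm
    · ext ⟨z, hz⟩
      simpa [Subtype.ext_iff] using key z hz
  · rcases key z hz with rfl | rfl
    · exact one_mem _
    · exact Subgroup.mem_zpowers _

/-- The centre when half the Coxeter period of every basis vector is its negative. -/
theorem center_of_coxeter {h m : ℕ} {basis : List (List (List ℤ))} {free : List (List ℤ)}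
    (hk : coxOk C h basis free = true) (hm : m ≤ h)
    (hneg : ∀ k j : Fin n, toVec n ((basis.getD k []).getD m []) j
      = -(Pi.single k 1 : Fin n → ℤ) j) :
    Nat.card (Subgroup.center M.Group) = 2 ∧
      Subgroup.center M.Group ≤ Subgroup.zpowers ((List.finRange n).map M.simple).prod := by
  simp only [coxOk, Bool.and_eq_true, Bool.or_eq_true, decide_eq_true_eq, List.all_eq_true,
    List.any_eq_true, List.mem_finRange, forall_const, true_and, List.mem_range] at hk
  obtain ⟨⟨⟨⟨-, hb⟩, -⟩, -⟩, -⟩ := hk
  have hpow : ∀ v : Fin n → ℤ,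
      hC.rep (((List.finRange n).map M.simple).prod ^ m) v = (coxFun C)^[m] v := by
    intro v
    rw [map_pow, Module.End.pow_apply]
    congr 1
    funext w
    exact rep_prod_apply hC _ w
  have hw : hC.rep (((List.finRange n).map M.simple).prod ^ m) =
      (-1 : Module.End ℤ (Fin n → ℤ)) := by
    refine LinearMap.pi_ext' fun k => LinearMap.ext_ring ?_
    obtain ⟨⟨ht, hl⟩, hj⟩ := hb k
    simp only [LinearMap.coe_comp, LinearMap.coe_single, Function.comp_apply, hpow]
    rw [← funext fun j => (hj j).1, trajOk_iterate _ ht m (by omega), funext (hneg k)]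
    rw [funext fun j => (hj j).1]
    rfl
  obtain ⟨h2, hle⟩ := center_of_neg hC hconn fun v => by rw [hw]; rfl
  exact ⟨h2, hle.trans (Subgroup.zpowers_le.mpr (pow_mem (Subgroup.mem_zpowers _) m))⟩

/-- No element acts as `-1` when a functional modulo `3` is invariant under the reflections. -/
theorem center_of_functional (w : Fin n → ZMod 3) (k₀ : Fin n) (hk₀ : w k₀ ≠ 0)
    (hinv : ∀ i : Fin n, ∑ k : Fin n, w k * (C.a k i : ZMod 3) = 0) :
    Subgroup.center M.Group = ⊥ := by
  rw [eq_bot_iff]
  intro z hz
  rw [Subgroup.mem_bot]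
  refine (rep_center hC hconn hz).resolve_right fun hneg => ?_
  let φ : (Fin n → ℤ) → ZMod 3 := fun v => ∑ k, w k * (v k : ZMod 3)
  have hφ : ∀ (g : M.Group) v, φ (hC.rep g v) = φ v := by
    intro g
    induction g using M.toCoxeterSystem.simple_induction with
    | simple i =>
      intro v
      rw [CoxeterMatrix.toCoxeterSystem_simple, hC.rep_simple]
      show ∑ k, w k * ((C.reflFun i v k : ℤ) : ZMod 3) = _
      simp only [reflFun_eq, Int.cast_sub, Int.cast_mul, mul_sub, Finset.sum_sub_distrib]
      have h0 : ∑ k : Fin n, w k * ((v i : ZMod 3) * (C.a k i : ZMod 3)) = 0 := by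
        rw [← mul_zero (v i : ZMod 3), ← hinv i, Finset.mul_sum]
        exact Finset.sum_congr rfl fun k _ => by ring
      rw [h0, sub_zero]
    | one => intro v; simp
    | mul a b iha ihb => intro v; rw [map_mul, Module.End.mul_apply, iha, ihb]
  have h := hφ z (Pi.single k₀ 1)
  rw [hneg] at h
  simp [φ, Pi.single_apply, apply_ite] at h
  revert hk₀ h
  generalize w k₀ = x
  decide +revert

end CfsgLib.WeylCenter
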